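/-
Definitions for S2928 (overgroups of a Sylow 2-subgroup of Alt(n) in Sym(n) with quasisimple F*).
Architect: helper6.
-/
import Mathlib

set_option autoImplicit false

namespace Cfsg.Agent.Lib.Helper06.SylTwo

open Equiv Equiv.Perm

variable {α : Type*} [DecidableEq α]

/-- The Klein four-group on the four points `a b c d`: `{1, (ab)(cd), (ac)(bd), (ad)(bc)}`. -/
def klein (a b c d : α) : Subgroup (Perm α) :=
  Subgroup.closure {swap a b * swap c d, swap a c * swap b d}

/-- `V` is the Klein four-group on four distinct points (a "Jordan four-group": regular on its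
support, fixing every other point). -/
def IsKlein (V : Subgroup (Perm α)) : Prop :=
  ∃ a b c d : α, a ≠ b ∧ a ≠ c ∧ a ≠ d ∧ b ≠ c ∧ b ≠ d ∧ c ≠ d ∧ V = klein a b c d

/-- The set of the points moved by `K`. -/
def suppSet (K : Subgroup (Perm α)) : Set α := {x | ∃ k ∈ K, k x ≠ x}

/-- The normal closure of `V` under `K`. -/
def ncl (K V : Subgroup (Perm α)) : Subgroup (Perm α) :=
  Subgroup.closure {g | ∃ k ∈ K, ∃ v ∈ V, g = k * v * k⁻¹}

/-- `G` is generated by the Klein four-groups in `𝒲`, fixes every point outside `Δ` and is transitive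
on `Δ`. -/
structure JK (𝒲 : Set (Subgroup (Perm α))) (G : Subgroup (Perm α)) (Δ : Set α) : Prop where
  klein : ∀ W ∈ 𝒲, IsKlein W
  gen : G = sSup 𝒲
  fix : ∀ g ∈ G, ∀ x, x ∉ Δ → g x = x
  trans : ∀ x ∈ Δ, ∀ y ∈ Δ, ∃ g ∈ G, g x = y

/-- `β` is a block of `G`. -/
def IsBlk (G : Subgroup (Perm α)) (β : Set α) : Prop :=
  ∀ g ∈ G, g '' β = β ∨ Disjoint (g '' β) β

end Cfsg.Agent.Lib.Helper06.SylTwo
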