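/-
S2928 leaf A8f: the stabilizer of the partition {B | Bᶜ} has index 7.  helper6.
-/
import Mathlib
import Cfsg.Agent.Lib.Helper64.MarggrafC

set_option autoImplicit false
set_option linter.unusedSectionVars false
set_option linter.style.haveILetI false
set_option linter.unusedVariables false

namespace Cfsg.Agent.Lib.Helper06.SylTwo

open Equiv MulAction
open scoped Pointwise
open Cfsg.Agent.Lib.Helper64.Marggraf (IsJ)

section A8f
variable {M β : Type*} [Group M] [Finite M] [MulAction M β] [FaithfulSMul M β] [Fintype β] [DecidableEq β]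

theorem emb_smul_eq_iff (m : M) (t t' : Fin 3 ↪ β) : m • t = t' ↔ ∀ i, m • t i = t' i := by
  constructor
  · intro h i
    rw [← h]; rfl
  · intro h
    ext i
    exact h i

/-- the stabilizer of an injective triple outside `B` is the pointwise stabilizer of `Bᶜ` -/
theorem stab_triple (B : Set β) (hBc : Bᶜ.ncard = 4)
    (hfix : ∀ (m : M) (x y z w : β), x ∉ B → y ∉ B → z ∉ B → w ∉ B → x ≠ y → x ≠ z → y ≠ z →
      m • x = x → m • y = y → m • z = z → m • w = w)
    (t : Fin 3 ↪ β) (ht : ∀ i, t i ∉ B) : stabilizer M t = fixingSubgroup M Bᶜ := by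
  ext m
  rw [mem_stabilizer_iff, emb_smul_eq_iff, mem_fixingSubgroup_iff]
  constructor
  · intro h w hw
    have h01 : t 0 ≠ t 1 := fun e => by have := t.injective e; simp at this
    have h02 : t 0 ≠ t 2 := fun e => by have := t.injective e; simp at this
    have h12 : t 1 ≠ t 2 := fun e => by have := t.injective e; simp at this
    exact hfix m (t 0) (t 1) (t 2) w (ht 0) (ht 1) (ht 2) hw h01 h02 h12 (h 0) (h 1) (h 2)
  · intro h i
    exact h (t i) (ht i)


theorem ncard_triples_in (C : Set β) (hC : C.ncard = 4) :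
    ({t : Fin 3 ↪ β | ∀ i, t i ∈ C}).ncard = 24 := by
  classical
  have e : {t : Fin 3 ↪ β | ∀ i, t i ∈ C} ≃ (Fin 3 ↪ ↥C) :=
    { toFun := fun t => Function.Embedding.codRestrict C t.1 t.2
      invFun := fun u => ⟨u.trans (Function.Embedding.subtype _), fun i => (u i).2⟩
      left_inv := fun t => by ext i; rfl
      right_inv := fun u => by ext i; rfl }
  rw [← Nat.card_coe_set_eq, Nat.card_congr e]
  haveI : Fintype ↥C := Fintype.ofFinite _
  rw [Nat.card_eq_fintype_card, Fintype.card_embedding_eq, Fintype.card_fin,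
    ← Nat.card_eq_fintype_card, Nat.card_coe_set_eq, hC]
  rfl

theorem exists_triple_in (C : Set β) (hC : C.ncard = 4) : ∃ t : Fin 3 ↪ β, ∀ i, t i ∈ C := by
  classical
  haveI : Fintype ↥C := Fintype.ofFinite _
  have h : Fintype.card (Fin 3) ≤ Fintype.card ↥C := by
    rw [Fintype.card_fin, ← Nat.card_eq_fintype_card, Nat.card_coe_set_eq, hC]; norm_num
  obtain ⟨e⟩ := Function.Embedding.nonempty_of_card_le h
  exact ⟨e.trans (Function.Embedding.subtype _), fun i => (e i).2⟩

theorem fixedBy_Q_notMem (B : Set β) (hB : 1 < B.ncard) (hJ : IsJ M B) (x : β)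
    (hx : ∀ q ∈ fixingSubgroup M Bᶜ, q • x = x) : x ∉ B := by
  intro hxB
  obtain ⟨y, hyB, hyx⟩ := Set.exists_ne_of_one_lt_ncard hB x
  obtain ⟨g, hg1, hg2⟩ := hJ x hxB y hyB
  have : g ∈ fixingSubgroup M Bᶜ := by
    rw [mem_fixingSubgroup_iff]; intro z hz; exact hg1 z hz
  exact hyx (by rw [← hg2, hx g this])

theorem index_stab_triple (h8 : Fintype.card β = 8) (h3 : IsMultiplyPretransitive M β 3)
    (t : Fin 3 ↪ β) : (stabilizer M t).index = 336 := by
  haveI : IsPretransitive M (Fin 3 ↪ β) := h3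
  rw [MulAction.index_stabilizer_of_transitive, Nat.card_eq_fintype_card,
    Fintype.card_embedding_eq, Fintype.card_fin, h8]
  rfl

theorem stabilizer_subgroup_eq {α : Type*} [MulAction M α] (S : Subgroup M) (a : α) :
    stabilizer ↥S a = (stabilizer M a).subgroupOf S := by
  ext s
  rw [mem_stabilizer_iff, Subgroup.mem_subgroupOf, mem_stabilizer_iff]
  rfl


theorem a8_exists_index_seven (h8 : Fintype.card β = 8) (h3 : IsMultiplyPretransitive M β 3)
    (B : Set β) (hB : B.ncard = 4) (hJ : IsJ M B)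
    (hfix : ∀ (m : M) (x y z w : β), x ∉ B → y ∉ B → z ∉ B → w ∉ B → x ≠ y → x ≠ z → y ≠ z →
      m • x = x → m • y = y → m • z = z → m • w = w) :
    ∃ P : Subgroup M, P.index = 7 ∧
      ∀ p ∈ P, (∀ x ∈ B, p • x ∈ B) ∨ (∀ x ∈ B, p • x ∉ B) := by
  classical
  haveI : IsPretransitive M (Fin 3 ↪ β) := h3
  have hBc : Bᶜ.ncard = 4 := by
    have := Set.ncard_add_ncard_compl B
    rw [Nat.card_eq_fintype_card, h8, hB] at this
    omega
  obtain ⟨t₀, ht₀⟩ : ∃ t : Fin 3 ↪ β, ∀ i, t i ∈ Bᶜ := exists_triple_in Bᶜ hBc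
  obtain ⟨u₀, hu₀⟩ : ∃ t : Fin 3 ↪ β, ∀ i, t i ∈ B := exists_triple_in B hB
  have hstab : ∀ t : Fin 3 ↪ β, (∀ i, t i ∈ Bᶜ) → stabilizer M t = fixingSubgroup M Bᶜ :=
    fun t ht => stab_triple B hBc hfix t ht
  have hQS : fixingSubgroup M Bᶜ ≤ stabilizer M B := by
    intro q hq
    rw [← stabilizer_compl, mem_stabilizer_set' (Set.toFinite _)]
    intro b hb
    rw [mem_fixingSubgroup_iff] at hq
    rw [hq b hb]; exact hb
  have hB1 : 1 < B.ncard := by omega
  -- key: `m • t₀` inside `Bᶜ` implies `m` stabilizes `B`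
  have hkey : ∀ m : M, (∀ i, (m • t₀) i ∈ Bᶜ) → m ∈ stabilizer M B := by
    intro m hm
    rw [← stabilizer_compl, mem_stabilizer_set' (Set.toFinite _)]
    intro x hx
    apply fixedBy_Q_notMem B hB1 hJ
    intro q hq
    have h1 : m⁻¹ * q * m ∈ fixingSubgroup M Bᶜ := by
      rw [← hstab t₀ ht₀, mem_stabilizer_iff, mul_smul, mul_smul]
      rw [← hstab (m • t₀) hm, mem_stabilizer_iff] at hq
      rw [hq, inv_smul_smul]
    rw [mem_fixingSubgroup_iff] at h1
    have h2 := h1 x hx
    rw [mul_smul, mul_smul, inv_smul_eq_iff] at h2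
    exact h2
  have hrel : (fixingSubgroup M Bᶜ).relIndex (stabilizer M B) = 24 := by
    rw [Subgroup.relIndex, ← hstab t₀ ht₀, ← stabilizer_subgroup_eq, MulAction.index_stabilizer]
    convert ncard_triples_in Bᶜ hBc using 2
    ext t
    rw [mem_orbit_iff]
    constructor
    · rintro ⟨s, rfl⟩ i
      have hs : (s : M) ∈ stabilizer M Bᶜ := by rw [stabilizer_compl]; exact s.2
      rw [mem_stabilizer_set' (Set.toFinite _)] at hs
      exact hs (ht₀ i)
    · intro ht
      obtain ⟨m, hm⟩ := exists_smul_eq M t₀ t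
      exact ⟨⟨m, hkey m (by rw [hm]; exact ht)⟩, hm⟩
  have hQidx : (fixingSubgroup M Bᶜ).index = 336 := by
    rw [← hstab t₀ ht₀]; exact index_stab_triple h8 h3 t₀
  have hSidx : (stabilizer M B).index = 14 := by
    have := Subgroup.relIndex_mul_index hQS
    rw [hrel, hQidx] at this
    omega
  -- the swap element
  obtain ⟨m₁, hm₁⟩ := exists_smul_eq M t₀ u₀
  have hKidx : (stabilizer M u₀).index = 336 := index_stab_triple h8 h3 u₀
  have hKS : stabilizer M u₀ ≤ stabilizer M B := by
    have h1 : (stabilizer M u₀).relIndex (stabilizer M B) ≤ 24 := by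
      rw [Subgroup.relIndex, ← stabilizer_subgroup_eq, MulAction.index_stabilizer,
        ← ncard_triples_in B hB]
      apply Set.ncard_le_ncard _ (Set.toFinite _)
      rintro t ⟨s, rfl⟩ i
      have hs' : (s : M) ∈ stabilizer M B := s.2
      rw [mem_stabilizer_set' (Set.toFinite _)] at hs'
      exact hs' (hu₀ i)
    have h2 := Subgroup.inf_relIndex_right (stabilizer M u₀) (stabilizer M B)
    have h3' := Subgroup.relIndex_mul_index
      (inf_le_right : stabilizer M u₀ ⊓ stabilizer M B ≤ stabilizer M B)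
    have h4 := Subgroup.relIndex_mul_index
      (inf_le_left : stabilizer M u₀ ⊓ stabilizer M B ≤ stabilizer M u₀)
    have h5 : (stabilizer M u₀ ⊓ stabilizer M B).index ≠ 0 := Subgroup.index_ne_zero_of_finite
    rw [h2, hSidx] at h3'
    rw [hKidx] at h4
    have h6 : (stabilizer M u₀ ⊓ stabilizer M B).relIndex (stabilizer M u₀) = 1 := by
      omega
    rw [Subgroup.relIndex_eq_one] at h6
    exact h6.trans inf_le_right
  have hKfix : ∀ k ∈ stabilizer M u₀, ∀ b ∈ B, k • b = b := by
    intro k hk b hb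
    have hk' := hk
    rw [mem_stabilizer_iff, emb_smul_eq_iff] at hk'
    by_cases hbr : b ∈ Set.range u₀
    · obtain ⟨i, rfl⟩ := hbr
      exact hk' i
    · have hkS := hKS hk
      rw [mem_stabilizer_set' (Set.toFinite _)] at hkS
      have hsub : Set.range u₀ ⊆ B := by rintro _ ⟨i, rfl⟩; exact hu₀ i
      have hD : (B \ Set.range u₀).ncard = 1 := by
        rw [Set.ncard_sdiff hsub, hB, Set.ncard_range_of_injective u₀.injective,
          Nat.card_eq_fintype_card, Fintype.card_fin]
      obtain ⟨d, hd⟩ := Set.ncard_eq_one.mp hD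
      have h1 : b ∈ B \ Set.range u₀ := ⟨hb, hbr⟩
      have h2 : k • b ∈ B \ Set.range u₀ := by
        refine ⟨hkS hb, ?_⟩
        rintro ⟨i, hi⟩
        apply hbr
        refine ⟨i, ?_⟩
        have := hk' i
        exact MulAction.injective k (by show k • u₀ i = k • b; rw [this, hi])
      rw [hd, Set.mem_singleton_iff] at h1 h2
      exact h2.trans h1.symm
  have hswap : m₁⁻¹ • B = Bᶜ := by
    apply Set.eq_of_subset_of_ncard_le _ _ (Set.toFinite _)
    · rintro _ ⟨b, hb, rfl⟩
      show m₁⁻¹ • b ∈ Bᶜ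
      apply fixedBy_Q_notMem B hB1 hJ
      intro q hq
      have hk : m₁ * q * m₁⁻¹ ∈ stabilizer M u₀ := by
        rw [mem_stabilizer_iff, ← hm₁, mul_smul, mul_smul, inv_smul_smul]
        rw [← hstab t₀ ht₀, mem_stabilizer_iff] at hq
        rw [hq]
      have := hKfix _ hk b hb
      rw [mul_smul, mul_smul, smul_eq_iff_eq_inv_smul] at this
      exact this
    · rw [Set.ncard_smul_set, hB, hBc]
  have hne : Bᶜ ≠ B := by
    intro h
    obtain ⟨b, hb⟩ : B.Nonempty := Set.nonempty_of_ncard_ne_zero (by omega)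
    have hb' := hb
    rw [← h] at hb'
    exact hb' hb
  let P : Subgroup M :=
    { carrier := {m | m • B = B ∨ m • B = Bᶜ}
      one_mem' := Or.inl (one_smul _ _)
      mul_mem' := by
        rintro a b (ha | ha) (hb | hb)
        · left; rw [mul_smul, hb, ha]
        · right; rw [mul_smul, hb, Set.smul_set_compl, ha]
        · right; rw [mul_smul, hb, ha]
        · left; rw [mul_smul, hb, Set.smul_set_compl, ha, compl_compl]
      inv_mem' := by
        rintro a (ha | ha)
        · left; rw [inv_smul_eq_iff, ha]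
        · right; rw [inv_smul_eq_iff, Set.smul_set_compl, ha, compl_compl] }
  have hSP : stabilizer M B ≤ P := fun s hs => Or.inl (mem_stabilizer_iff.mp hs)
  have hrel2 : (stabilizer M B).relIndex P = 2 := by
    rw [Subgroup.relIndex_eq_two_iff]
    refine ⟨m₁⁻¹, Or.inr hswap, ?_⟩
    rintro b (hb | hb)
    · refine Or.inr ⟨mem_stabilizer_iff.mpr hb, ?_⟩
      rw [mem_stabilizer_iff, mul_smul, hswap, Set.smul_set_compl, hb]
      exact hne
    · refine Or.inl ⟨?_, ?_⟩
      · rw [mem_stabilizer_iff, mul_smul, hswap, Set.smul_set_compl, hb, compl_compl]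
      · rw [mem_stabilizer_iff, hb]
        exact hne
  have hfin := Subgroup.relIndex_mul_index hSP
  rw [hrel2, hSidx] at hfin
  refine ⟨P, by omega, ?_⟩
  rintro p (hp | hp)
  · left
    intro x hx
    rw [← hp]
    exact Set.smul_mem_smul_set hx
  · right
    intro x hx
    have hx' : p • x ∈ p • B := Set.smul_mem_smul_set hx
    rw [hp] at hx'
    exact hx'

end A8f

end Cfsg.Agent.Lib.Helper06.SylTwo
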