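/-
S2928, the 8-point case: assembly of the leaves A8a–A8h.  helper6.
-/
import Mathlib
import Cfsg.Prelude.Def_Local
import Cfsg.Agent.Lib.Helper06.SylTwo.Defs
import Cfsg.Agent.Lib.Helper06.SylTwo.A8f
import Cfsg.Agent.Lib.Helper49.SylTwoA8a
import Cfsg.Agent.Lib.Helper49.SylTwoA8b
import Cfsg.Agent.Lib.Helper50.SylTwoA8c
import Cfsg.Agent.Lib.Helper77.SylTwoA8d
import Cfsg.Agent.Lib.Helper74.SylTwoA8e
import Cfsg.Agent.Lib.Helper47.SylTwoA8g
import Cfsg.Agent.Lib.Helper34.SylTwoA8h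
import Cfsg.Agent.Lib.Helper30.Components
import Cfsg.Agent.Lib.Helper64.MarggrafC

set_option autoImplicit false

namespace Cfsg.Agent.Lib.Helper06.SylTwo

open Equiv Equiv.Perm MulAction
open Cfsg.Agent.Lib.Helper64.Marggraf (IsJ)

variable {M β : Type*} [Group M] [Finite M] [MulAction M β] [FaithfulSMul M β] [Fintype β] [DecidableEq β]

theorem isPreprimitive_of_subgroup (K : Subgroup M) (h : IsPreprimitive ↥K β) : IsPreprimitive M β := by
  let f : β →ₑ[⇑K.subtype] β := { toFun := id, map_smul' := fun _ _ => rfl }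
  exact IsPreprimitive.of_surjective (f := f) Function.surjective_id

theorem a8_main (h8 : Fintype.card β = 8) (K : Subgroup M) [K.Normal] (hq : Cfsg.IsQuasisimple ↥K)
    (hcent : Subgroup.centralizer (K : Set M) ≤ K) (B : Set β) (hB : B.ncard = 4) (hJ : IsJ M B)
    (h64 : 64 ∣ Nat.card M) :
    ∀ σ : Perm β, Perm.sign σ = 1 → ∃ k ∈ K, MulAction.toPerm k = σ := by
  obtain ⟨hperf, hK1, -⟩ := Cfsg.Agent.Lib.Helper30.qs_subgroup hq
  have htr : IsPretransitive ↥K β := Cfsg.Agent.Lib.Helper49.SylTwo.a8_isPretransitive h8 K hq hcent h64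
  have hprimK : IsPreprimitive ↥K β := Cfsg.Agent.Lib.Helper49.SylTwo.a8_isPreprimitive h8 K hperf htr
  have hprimM : IsPreprimitive M β := isPreprimitive_of_subgroup K hprimK
  have h3 : IsMultiplyPretransitive M β 3 := Cfsg.Agent.Lib.Helper50.SylTwo.a8_three_transitive h8 hprimM B hB hJ
  by_cases h4 : IsMultiplyPretransitive M β 4
  · exact Cfsg.Agent.Lib.Helper34.SylTwo.a8_normal_contains_alt h8 K hK1 hcent
      (Cfsg.Agent.Lib.Helper77.SylTwo.a8_alt_of_four h8 h4 B hB hJ)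
  · exfalso
    obtain ⟨P, hP, hPB⟩ := a8_exists_index_seven h8 h3 B hB hJ 
      (Cfsg.Agent.Lib.Helper74.SylTwo.a8_fix_fourth h8 h3 h4 B hB hJ)
    exact Cfsg.Agent.Lib.Helper47.SylTwo.a8_false_of_index_seven h8 K hq hcent hprimK h64 B hB P hP hPB

end Cfsg.Agent.Lib.Helper06.SylTwo
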