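/-
S2928 glue: n ≥ 8, H ≤ Sym(n), F*(H) quasisimple, H ⊇ a Sylow 2-subgroup of Alt(n)
  ⟹ F*(H) ≅ Alt(m), n-3 ≤ m ≤ n.
Architecture by helper6; see notes/S2928_keystones.lean.txt.
-/
import Mathlib
import Cfsg.Prelude.Def_Local
import Cfsg.Agent.Lib.Helper06.SylAlt.Defs
import Cfsg.Agent.Lib.Helper06.SylTwo.Defs
import Cfsg.Agent.Lib.Helper06.SylTwo.A8Main
import Cfsg.Agent.Lib.Helper70.SylTwoE2
import Cfsg.Agent.Lib.Helper78.SylTwoA
import Cfsg.Agent.Lib.Helper68.SylTwoB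
import Cfsg.Agent.Lib.Helper90.SylTwoC
import Cfsg.Agent.Lib.Helper01.SylTwoCp
import Cfsg.Agent.Lib.Helper77.SylTwoC6
import Cfsg.Agent.Lib.Helper88.SylTwoD
import Cfsg.Agent.Lib.Helper52.SylTwoD1
import Cfsg.Agent.Lib.Helper74.SylTwoD2
import Cfsg.Agent.Lib.Helper70.SylTwoE1
import Cfsg.Agent.Lib.Helper48.SylTwoE3
import Cfsg.Agent.Lib.Helper32.SylTwoE5
import Cfsg.Agent.Lib.Helper29.SylTwoF
import Cfsg.Agent.Lib.Helper29.SylAltB0
import Cfsg.Agent.Lib.Helper30.Components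
import Cfsg.Agent.Lib.Helper64.SylAltP5a

set_option autoImplicit false

namespace Cfsg.Agent.Lib.Helper06.SylTwo

open Equiv Equiv.Perm
open Cfsg.Agent.Lib.Helper06.SylAlt

section aux
variable {α : Type*} [Fintype α] [DecidableEq α]

theorem ncl_le (H K V : Subgroup (Perm α)) (hKH : K ≤ H) (hVH : V ≤ H) : ncl K V ≤ H := by
  unfold ncl
  rw [Subgroup.closure_le]
  rintro g ⟨k, hk, v, hv, rfl⟩
  exact H.mul_mem (H.mul_mem (hKH hk) (hVH hv)) (H.inv_mem (hKH hk))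

theorem le_ncl_self (K V : Subgroup (Perm α)) : V ≤ ncl K V := by
  intro v hv
  apply Subgroup.subset_closure
  exact ⟨1, K.one_mem, v, hv, by simp⟩

/-- a perfect subgroup consists of even permutations -/
theorem le_alternatingGroup_of_perfect (K : Subgroup (Perm α)) (hperf : ⁅K, K⁆ = K) :
    K ≤ alternatingGroup α := by
  rw [← hperf, Subgroup.commutator_le]
  intro a _ b _
  rw [Equiv.Perm.mem_alternatingGroup, commutatorElement_def]
  simp only [map_mul, map_inv]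
  rw [mul_comm (Perm.sign a) (Perm.sign b), mul_assoc, mul_assoc, mul_inv_cancel_left, mul_inv_cancel]

end aux

/-- **S2928.** -/
theorem main (n : ℕ) (hn : 8 ≤ n) (H : Subgroup (Perm (Fin n)))
    (hF : Cfsg.IsQuasisimple ↥(Cfsg.generalizedFittingSubgroup ↥H))
    (hS : ∃ P : Sylow 2 ↥(alternatingGroup (Fin n)),
      ((P : Subgroup ↥(alternatingGroup (Fin n))).map (alternatingGroup (Fin n)).subtype) ≤ H) :
    ∃ m : ℕ, (m = n - 3 ∨ m = n - 2 ∨ m = n - 1 ∨ m = n) ∧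
      Nonempty (↥(Cfsg.generalizedFittingSubgroup ↥H) ≃* ↥(alternatingGroup (Fin m))) := by
  obtain ⟨K, hKH, hHK, hq, ⟨e⟩, hcent, -⟩ := Cfsg.Agent.Lib.Helper29.SylAlt.exists_fstar_internal H hF
  obtain ⟨hperf, hK1, -⟩ := Cfsg.Agent.Lib.Helper30.qs_subgroup hq
  obtain ⟨P, hP⟩ := hS
  set T : Subgroup (Perm (Fin n)) :=
    (P : Subgroup ↥(alternatingGroup (Fin n))).map (alternatingGroup (Fin n)).subtype with hT
  -- A, B: a Klein four-group in T not centralizing K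
  obtain ⟨U, hUcard, hU⟩ := Cfsg.Agent.Lib.Helper78.SylTwo.sylow_two_cover n P
  obtain ⟨V, ⟨hVk, hVT⟩, hnc⟩ := Cfsg.Agent.Lib.Helper68.SylTwo.exists_klein_not_commute K hperf hK1 U (by simpa using hUcard)
    {V | IsKlein V ∧ V ≤ T} (fun V h => h.1)
    (fun x hx => by
      obtain ⟨V, h1, h2, h3⟩ := hU x hx
      exact ⟨V, ⟨h1, h2⟩, h3⟩)
  have hVH : V ≤ H := hVT.trans hP
  obtain ⟨a, b, c, d, hab, hac, had, hbc, hbd, hcd, rfl⟩ := hVk
  -- C: the normal closure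
  set G : Subgroup (Perm (Fin n)) := ncl K (klein a b c d) with hG
  have hKG : K ≤ G := Cfsg.Agent.Lib.Helper90.SylTwo.le_ncl H K (klein a b c d) hKH hHK hq hVH hnc
  have hGH : G ≤ H := ncl_le H K _ hKH hVH
  have hGK : G ≤ Subgroup.normalizer (K : Set (Perm (Fin n))) := hGH.trans hHK
  set Δ : Set (Fin n) := {x | ∃ g ∈ G, g a = x} with hΔ
  have hJK := Cfsg.Agent.Lib.Helper01.SylTwo.jk_of_ncl K hab hac had hbc hbd hcd hKG
  have hsupp : suppSet K = Δ := Cfsg.Agent.Lib.Helper77.SylTwo.suppSet_eq _ G K Δ hJK hKG hGK hK1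
  -- D: the size of Δ
  have hcardT : Nat.card ↥T = Nat.card ↥(P : Subgroup ↥(alternatingGroup (Fin n))) :=
    Nat.card_congr (Subgroup.equivMapOfInjective _ _ (Subgroup.subtype_injective _)).symm.toEquiv
  have hdvd : Nat.card ↥T ∣ (Δ.ncard).factorial := by
    rw [← hsupp]
    exact Cfsg.Agent.Lib.Helper88.SylTwo.card_dvd_factorial H K T hKH hHK hcent hP
  have hmn : Δ.ncard ≤ n := by
    have := Set.ncard_le_card Δ
    simpa using this
  have h2c : 2 * Nat.card ↥T = 2 ^ (n.factorial.factorization 2) := by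
    rw [hcardT]
    exact Cfsg.Agent.Lib.Helper52.SylTwo.two_mul_card_sylow_two_alt n (by omega) P
  obtain ⟨h8, hnm, h64⟩ := Cfsg.Agent.Lib.Helper74.SylTwo.arith n Δ.ncard (Nat.card ↥T) hn hmn h2c hdvd
  -- K = altOn Δ
  have hKalt : K = altOn Δ := by
    by_cases h9 : 9 ≤ Δ.ncard
    · have hprim : ∀ β : Set (Fin n), β ⊆ Δ → IsBlk G β → β.ncard ≤ 1 ∨ β = Δ := by
        intro β hβ hblk
        by_contra hcon
        push Not at hcon
        obtain ⟨h1, hne⟩ := hcon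
        obtain ⟨h2, hW⟩ := Cfsg.Agent.Lib.Helper70.SylTwo.block_structure _ G Δ hJK β hβ hblk h1 hne
        exact Cfsg.Agent.Lib.Helper70.SylTwo.false_of_block_two _ G K Δ hJK hKG hGK hq β hβ hblk h2 hW
      have hle : altOn Δ ≤ G := Cfsg.Agent.Lib.Helper48.SylTwo.altOn_le_of_primitive _ G Δ hJK
        ⟨klein a b c d, 1, K.one_mem, by simp⟩ h9 hprim
      exact Cfsg.Agent.Lib.Helper32.SylTwo.eq_altOn G K Δ hJK.fix hKG hGK hq (by omega) hle
    · have h8' : (suppSet K).ncard = 8 := by rw [hsupp]; omega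
      have hVs : ∀ v ∈ klein a b c d, ∀ x, x ∉ suppSet K → v x = x := by
        intro v hv x hx
        rw [hsupp] at hx
        exact hJK.fix v (le_ncl_self K _ hv) x hx
      have hle : altOn (suppSet K) ≤ K :=
        Cfsg.Agent.Lib.Helper29.SylTwo.altOn_le_of_ncard_eight_of
          (fun M β _ _ _ _ _ _ h8 K _ hq hcent B hB hJ h64 => a8_main h8 K hq hcent B hB hJ h64)
          H K (klein a b c d) T hKH hHK hq hcent h8'
          ⟨a, b, c, d, hab, hac, had, hbc, hbd, hcd, rfl⟩ hVH hVs hP h64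
      rw [hsupp] at hle
      apply le_antisymm _ hle
      intro k hk
      refine ⟨le_alternatingGroup_of_perfect K hperf hk, ?_⟩
      intro x hx
      exact hJK.fix k (hKG hk) x hx
  -- conclusion
  set Δf : Finset (Fin n) := (Set.toFinite Δ).toFinset with hΔfdef
  have hΔf : (Δf : Set (Fin n)) = Δ := Set.Finite.coe_toFinset _
  have hcardΔ : Δf.card = Δ.ncard := (Set.ncard_eq_toFinset_card Δ (Set.toFinite Δ)).symm
  obtain ⟨e2⟩ := Cfsg.Agent.Lib.Helper64.SylAlt.altOn_mulEquiv Δf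
  refine ⟨Δf.card, by omega, ?_⟩
  have e1 : ↥K ≃* ↥(altOn (Δf : Set (Fin n))) := by
    rw [hΔf, ← hKalt]
  exact ⟨(e.trans e1).trans e2⟩

end Cfsg.Agent.Lib.Helper06.SylTwo
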